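import Mathlib
import Cfsg.Prelude.Def_LieExceptional

/-! Basic theory of (B,N)-pairs: Bruhat decomposition, uniqueness, exchange, parabolic subgroups. -/

set_option autoImplicit false

namespace Cfsg.Lib.BN

variable {G : Type*} [Group G] (P : Cfsg.BNPair G)

/-- The double coset `B n B`. -/
def dc (n : G) : Set G := DoubleCoset.doubleCoset n (P.B : Set G) P.B

variable {P}

theorem mem_dc {n g : G} : g ∈ dc P n ↔ ∃ a ∈ P.B, ∃ b ∈ P.B, g = a * n * b :=
  DoubleCoset.mem_doubleCoset

theorem self_mem_dc (n : G) : n ∈ dc P n := DoubleCoset.mem_doubleCoset_self _ _ _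

theorem mul_mem_dc {n g a b : G} (ha : a ∈ P.B) (hb : b ∈ P.B) (h : g ∈ dc P n) :
    a * g * b ∈ dc P n := by
  obtain ⟨a', ha', b', hb', rfl⟩ := mem_dc.1 h
  exact mem_dc.2 ⟨a * a', mul_mem ha ha', b' * b, mul_mem hb' hb, by group⟩

theorem dc_eq_of_mem {n m : G} (h : m ∈ dc P n) : dc P m = dc P n :=
  DoubleCoset.doubleCoset_eq_of_mem h

theorem mem_dc_symm {n m : G} (h : m ∈ dc P n) : n ∈ dc P m := by
  rw [dc_eq_of_mem h]; exact self_mem_dc n

theorem inv_mem_dc {n g : G} (h : g ∈ dc P n) : g⁻¹ ∈ dc P n⁻¹ := by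
  obtain ⟨a, ha, b, hb, rfl⟩ := mem_dc.1 h
  exact mem_dc.2 ⟨b⁻¹, inv_mem hb, a⁻¹, inv_mem ha, by group⟩

variable (P)

/-- Congruence modulo `B ∩ N` (used for elements of `N` only). -/
def Cong (n m : G) : Prop := n⁻¹ * m ∈ P.B ⊓ P.N

variable {P}

theorem Cong.refl (n : G) : Cong P n n := by simp [Cong]

theorem Cong.symm {n m : G} (h : Cong P n m) : Cong P m n := by
  have := inv_mem h
  simpa [Cong] using this

theorem Cong.trans {n m k : G} (h : Cong P n m) (h' : Cong P m k) : Cong P n k := by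
  have := mul_mem h h'
  simpa [Cong, mul_assoc] using this

theorem Cong.mul_left {n m : G} (c : G) (h : Cong P n m) : Cong P (c * n) (c * m) := by
  simpa [Cong, mul_assoc] using h

theorem conj_mem_inf {c t : G} (hc : c ∈ P.N) (ht : t ∈ P.B ⊓ P.N) : c * t * c⁻¹ ∈ P.B ⊓ P.N :=
  Subgroup.mem_inf.2 ⟨P.conj_mem c hc t ht, mul_mem (mul_mem hc ht.2) (inv_mem hc)⟩

theorem Cong.mul_right {n m c : G} (hc : c ∈ P.N) (h : Cong P n m) : Cong P (n * c) (m * c) := by
  have := conj_mem_inf (inv_mem hc) h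
  simpa [Cong, mul_assoc] using this

theorem Cong.inv {n m : G} (hn : n ∈ P.N) (h : Cong P n m) : Cong P n⁻¹ m⁻¹ := by
  have := conj_mem_inf hn (inv_mem h)
  simpa [Cong, mul_assoc] using this

theorem Cong.mem_N {n m : G} (hn : n ∈ P.N) (h : Cong P n m) : m ∈ P.N := by
  have := mul_mem hn h.2
  simpa using this

theorem Cong.dc_eq {n m : G} (h : Cong P n m) : dc P n = dc P m :=
  (dc_eq_of_mem (mem_dc.2 ⟨1, one_mem _, _, h.1, by group⟩)).symm

theorem Cong.mem_dc {n m : G} (h : Cong P n m) : n ∈ dc P m := by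
  rw [← h.dc_eq]; exact self_mem_dc n

theorem cong_mul_self {s : G} (hs : s ∈ P.S) : Cong P (s * s) 1 := by
  refine Cong.symm ?_
  simpa [Cong] using And.intro (P.sq_mem s hs) (mul_mem (P.subset hs) (P.subset hs))

theorem cong_inv_self {s : G} (hs : s ∈ P.S) : Cong P s⁻¹ s := by
  simpa [Cong] using And.intro (P.sq_mem s hs) (mul_mem (P.subset hs) (P.subset hs))

theorem not_mem_B {s : G} (hs : s ∈ P.S) : s ∉ P.B := by
  intro h
  apply P.conj_ne s hs
  ext x
  constructor
  · rintro ⟨b, hb, rfl⟩; exact mul_mem (mul_mem h hb) h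
  · intro hx
    exact ⟨s⁻¹ * x * s⁻¹, mul_mem (mul_mem (inv_mem h) hx) (inv_mem h), by group⟩

theorem smul_mem {s n b : G} (hs : s ∈ P.S) (hn : n ∈ P.N) (hb : b ∈ P.B) :
    s * b * n ∈ dc P (s * n) ∪ dc P n := P.mul_mem_union s hs n hn b hb

theorem mul_smem {s n b : G} (hs : s ∈ P.S) (hn : n ∈ P.N) (hb : b ∈ P.B) :
    n * b * s ∈ dc P (n * s) ∪ dc P n := by
  have ht : s * s ∈ P.B := P.sq_mem s hs
  have h1 := smul_mem hs (inv_mem hn) (mul_mem (inv_mem ht) (inv_mem hb))
  have he : (n * b * s)⁻¹ = s * ((s * s)⁻¹ * b⁻¹) * n⁻¹ := by group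
  rw [← he] at h1
  rcases h1 with h1 | h1
  · left
    have h2 := inv_mem_dc h1
    rw [inv_inv, mul_inv_rev, inv_inv] at h2
    rwa [((cong_inv_self hs).mul_left n).dc_eq] at h2
  · right
    simpa using inv_mem_dc h1

/-- Words in `S`. -/
def IsWord (P : Cfsg.BNPair G) (l : List G) : Prop := ∀ x ∈ l, x ∈ P.S

theorem isWord_nil : IsWord P [] := by simp [IsWord]

theorem isWord_cons {a : G} {l : List G} : IsWord P (a :: l) ↔ a ∈ P.S ∧ IsWord P l := by
  simp [IsWord]

theorem isWord_append {l l' : List G} : IsWord P (l ++ l') ↔ IsWord P l ∧ IsWord P l' := by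
  simp [IsWord, or_imp, forall_and]

theorem IsWord.prod_mem {l : List G} (h : IsWord P l) : l.prod ∈ P.N :=
  list_prod_mem fun x hx => P.subset (h x hx)

theorem cong_inv_prod {l : List G} (h : IsWord P l) : Cong P l.prod⁻¹ l.reverse.prod := by
  induction l with
  | nil => simp [Cong.refl]
  | cons a t ih =>
    rw [isWord_cons] at h
    rw [List.prod_cons, mul_inv_rev, List.reverse_cons, List.prod_append, List.prod_singleton]
    exact ((cong_inv_self h.1).mul_left _).trans ((ih h.2).mul_right (P.subset h.1))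

theorem exists_word_of_mem_closure {J : Set G} (hJ : J ⊆ P.S) {x : G}
    (hx : x ∈ Subgroup.closure J ⊔ (P.B ⊓ P.N)) :
    ∃ l : List G, (∀ a ∈ l, a ∈ J) ∧ Cong P l.prod x := by
  rw [← Subgroup.closure_eq (P.B ⊓ P.N), ← Subgroup.closure_union] at hx
  induction hx using Subgroup.closure_induction with
  | mem x hx =>
    rcases hx with hx | hx
    · exact ⟨[x], by simpa using hx, by simp [Cong.refl]⟩
    · exact ⟨[], by simp, by simpa [Cong] using hx⟩
  | one => exact ⟨[], by simp, by simp [Cong.refl]⟩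
  | mul x y _ _ ihx ihy =>
    obtain ⟨l, hl, hlx⟩ := ihx
    obtain ⟨m, hm, hmy⟩ := ihy
    refine ⟨l ++ m, fun a ha => (List.mem_append.1 ha).elim (hl a) (hm a), ?_⟩
    rw [List.prod_append]
    exact (hlx.mul_right (IsWord.prod_mem fun a ha => hJ (hm a ha))).trans (hmy.mul_left x)
  | inv x _ ih =>
    obtain ⟨l, hl, hlx⟩ := ih
    have hw : IsWord P l := fun a ha => hJ (hl a ha)
    exact ⟨l.reverse, fun a ha => hl a (List.mem_reverse.1 ha),
      (cong_inv_prod hw).symm.trans (hlx.inv hw.prod_mem)⟩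

theorem exists_word {n : G} (hn : n ∈ P.N) : ∃ l, IsWord P l ∧ Cong P l.prod n :=
  exists_word_of_mem_closure (subset_refl _) (by rw [P.closure_sup]; exact hn)

/-- The length function on `N`. -/
noncomputable def len (P : Cfsg.BNPair G) (n : G) : ℕ :=
  sInf {k | ∃ l : List G, IsWord P l ∧ l.length = k ∧ Cong P l.prod n}

theorem len_le {n : G} {l : List G} (hl : IsWord P l) (h : Cong P l.prod n) :
    len P n ≤ l.length := Nat.sInf_le ⟨l, hl, rfl, h⟩

theorem exists_reduced {n : G} (hn : n ∈ P.N) :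
    ∃ l, IsWord P l ∧ l.length = len P n ∧ Cong P l.prod n := by
  obtain ⟨l, hl, h⟩ := exists_word hn
  exact Nat.sInf_mem (s := {k | ∃ l : List G, IsWord P l ∧ l.length = k ∧ Cong P l.prod n})
    ⟨_, l, hl, rfl, h⟩

theorem len_congr {n m : G} (hn : n ∈ P.N) (h : Cong P n m) : len P n = len P m := by
  apply le_antisymm
  · obtain ⟨l, hl, hlen, hc⟩ := exists_reduced (h.mem_N hn)
    exact hlen ▸ len_le hl (hc.trans h.symm)
  · obtain ⟨l, hl, hlen, hc⟩ := exists_reduced hn
    exact hlen ▸ len_le hl (hc.trans h)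

@[simp] theorem len_one : len P (1 : G) = 0 :=
  Nat.le_zero.1 (len_le (l := []) isWord_nil (by simp [Cong.refl]))

theorem len_mul_left_le {s n : G} (hs : s ∈ P.S) (hn : n ∈ P.N) : len P (s * n) ≤ len P n + 1 := by
  obtain ⟨l, hl, hlen, hc⟩ := exists_reduced hn
  have := len_le (n := s * n) (isWord_cons.2 ⟨hs, hl⟩) (by simpa using hc.mul_left s)
  simpa [hlen] using this

theorem len_mul_right_le {s n : G} (hs : s ∈ P.S) (hn : n ∈ P.N) : len P (n * s) ≤ len P n + 1 := by
  obtain ⟨l, hl, hlen, hc⟩ := exists_reduced hn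
  have := len_le (n := n * s) (isWord_append.2 ⟨hl, isWord_cons.2 ⟨hs, isWord_nil⟩⟩)
    (by simpa using hc.mul_right (P.subset hs))
  simpa [hlen] using this

theorem len_eq_zero {n : G} (hn : n ∈ P.N) : len P n = 0 ↔ n ∈ P.B := by
  constructor
  · intro h
    obtain ⟨l, _, hlen, hc⟩ := exists_reduced hn
    rw [h, List.length_eq_zero_iff] at hlen
    subst hlen
    simpa [Cong] using hc.1
  · intro h
    exact Nat.le_zero.1 (len_le (l := []) isWord_nil (by simpa [Cong] using And.intro h hn))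

theorem cong_cancel {s n : G} (hs : s ∈ P.S) (hn : n ∈ P.N) : Cong P (s * (s * n)) n := by
  simpa [mul_assoc] using (cong_mul_self hs).mul_right hn

theorem len_inv {n : G} (hn : n ∈ P.N) : len P n⁻¹ = len P n := by
  have key : ∀ {m : G}, m ∈ P.N → len P m⁻¹ ≤ len P m := by
    intro m hm
    obtain ⟨l, hl, hlen, hc⟩ := exists_reduced hm
    have := len_le (n := m⁻¹) (l := l.reverse) (fun a ha => hl a (List.mem_reverse.1 ha))
      ((cong_inv_prod hl).symm.trans (hc.inv hl.prod_mem))
    simpa [hlen] using this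
  exact le_antisymm (key hn) (by simpa using key (inv_mem hn))

/-- Uniqueness in the Bruhat decomposition. -/
theorem cong_of_dc_eq {n m : G} (hn : n ∈ P.N) (hm : m ∈ P.N) (h : dc P n = dc P m) :
    Cong P n m := by
  suffices H : ∀ k, ∀ n m : G, n ∈ P.N → m ∈ P.N → len P n ≤ k → m ∈ dc P n → Cong P n m from
    H _ n m hn hm le_rfl (h ▸ self_mem_dc m)
  clear h hn hm n m
  intro k
  induction k with
  | zero =>
    intro n m hn hm hk h
    have hnB := (len_eq_zero hn).1 (Nat.le_zero.1 hk)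
    obtain ⟨a, ha, b, hb, rfl⟩ := mem_dc.1 h
    exact Subgroup.mem_inf.2 ⟨mul_mem (inv_mem hnB) (mul_mem (mul_mem ha hnB) hb), mul_mem (inv_mem hn) hm⟩
  | succ k ih =>
    intro n m hn hm hk h
    obtain ⟨l, hl, hlen, hc⟩ := exists_reduced hn
    cases l with
    | nil =>
      exact ih n m hn hm (by simp at hlen; omega) h
    | cons s t =>
      rw [isWord_cons] at hl
      rw [List.prod_cons] at hc
      have htN := hl.2.prod_mem
      have htlen : len P t.prod ≤ k := by
        have := len_le hl.2 (Cong.refl (P := P) t.prod)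
        simp at hlen; omega
      have hst : s * t.prod ∈ dc P m := by
        rw [hc.dc_eq.trans (dc_eq_of_mem h).symm |>.symm]; exact self_mem_dc _
      obtain ⟨a, ha, b, hb, hab⟩ := mem_dc.1 hst
      have e : t.prod = (s * s)⁻¹ * (s * a * m) * b := by
        calc t.prod = s⁻¹ * (s * t.prod) := by group
          _ = _ := by rw [hab]; group
      have hb2 : (s * s)⁻¹ ∈ P.B := inv_mem (P.sq_mem s hl.1)
      rcases smul_mem hl.1 hm ha with h1 | h1
      · have h2 : t.prod ∈ dc P (s * m) := e ▸ mul_mem_dc hb2 hb h1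
        have h3 := ih _ _ htN (mul_mem (P.subset hl.1) hm) htlen (mem_dc_symm h2)
        exact hc.symm.trans ((h3.mul_left s).trans (cong_cancel hl.1 hm))
      · have h2 : t.prod ∈ dc P m := e ▸ mul_mem_dc hb2 hb h1
        have h3 := ih _ _ htN hm htlen (mem_dc_symm h2)
        refine (ih m n hm hn ?_ (mem_dc_symm h)).symm
        rwa [← len_congr htN h3]

theorem cong_of_mem_dc {n m : G} (hn : n ∈ P.N) (hm : m ∈ P.N) (h : n ∈ dc P m) : Cong P n m :=
  cong_of_dc_eq hn hm (dc_eq_of_mem h)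

theorem not_cong_mul_left {s n : G} (hs : s ∈ P.S) (hn : n ∈ P.N) : ¬ Cong P (s * n) n := by
  intro h
  have := h.mul_right (inv_mem hn)
  simp [Cong] at this
  exact not_mem_B hs this.1

theorem smul_mem_dc_of_le {s : G} (hs : s ∈ P.S) {n : G} (hn : n ∈ P.N)
    (hle : len P n ≤ len P (s * n)) {b : G} (hb : b ∈ P.B) : s * b * n ∈ dc P (s * n) := by
  suffices H : ∀ k, ∀ n : G, n ∈ P.N → len P n = k → len P n ≤ len P (s * n) → ∀ b ∈ P.B,
      s * b * n ∈ dc P (s * n) from H _ n hn rfl hle b hb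
  clear hle hn n hb b
  intro k
  induction k with
  | zero =>
    intro n hn hk _ b hb
    have hnB := (len_eq_zero hn).1 hk
    exact mem_dc.2 ⟨1, one_mem _, n⁻¹ * b * n, mul_mem (mul_mem (inv_mem hnB) hb) hnB, by group⟩
  | succ k ih =>
    intro n hn hk hle b hb
    obtain ⟨l, hl, hlen, hc⟩ := exists_reduced hn
    rcases List.eq_nil_or_concat l with rfl | ⟨t, r, rfl⟩
    · simp at hlen; omega
    rw [List.concat_eq_append] at hl hlen hc
    rw [isWord_append, isWord_cons] at hl
    obtain ⟨ht, hr, -⟩ := hl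
    simp at hlen
    rw [List.prod_append, List.prod_singleton] at hc
    have htN := ht.prod_mem
    have hstN : s * t.prod ∈ P.N := mul_mem (P.subset hs) htN
    have hrN := P.subset hr
    have h1 : len P t.prod ≤ k := by
      have := len_le ht (Cong.refl (P := P) t.prod); omega
    have h1' : k ≤ len P t.prod := by
      have := len_mul_right_le hr htN
      rw [len_congr (mul_mem htN hrN) hc] at this; omega
    have hsn : len P (s * n) ≤ len P (s * t.prod) + 1 := by
      have := len_mul_right_le hr hstN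
      rwa [len_congr (mul_mem hstN hrN) (by simpa [mul_assoc] using hc.mul_left s)] at this
    have h2 : s * b * t.prod ∈ dc P (s * t.prod) :=
      ih _ htN (by omega) (by omega) b hb
    rcases smul_mem hs hn hb with h | h
    · exact h
    exfalso
    obtain ⟨a, ha, c, hcB, hac⟩ := mem_dc.1 h
    set u := (t.prod * r)⁻¹ * n with hu
    have huB : u ∈ P.B := hc.1
    have hnu : n = t.prod * r * u := by rw [hu]; group
    have e : s * b * t.prod = a * (n * (c * u⁻¹ * (r * r)⁻¹) * r) * 1 := by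
      calc s * b * t.prod = (s * b * n) * u⁻¹ * r⁻¹ := by rw [hnu]; group
        _ = _ := by rw [hac]; group
    have hcb : c * u⁻¹ * (r * r)⁻¹ ∈ P.B :=
      mul_mem (mul_mem hcB (inv_mem huB)) (inv_mem (P.sq_mem r hr))
    rcases mul_smem hr hn hcb with h3 | h3
    · have h4 : s * b * t.prod ∈ dc P (n * r) := e ▸ mul_mem_dc ha (one_mem _) h3
      have h5 : Cong P (s * t.prod) (n * r) :=
        cong_of_dc_eq hstN (mul_mem hn hrN) ((dc_eq_of_mem h2).symm.trans (dc_eq_of_mem h4))
      have h6 : Cong P (n * r) t.prod := (hc.symm.mul_right hrN).trans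
        (by simpa [mul_assoc] using (cong_mul_self hr).mul_left t.prod)
      exact not_cong_mul_left hs htN (h5.trans h6)
    · have h4 : s * b * t.prod ∈ dc P n := e ▸ mul_mem_dc ha (one_mem _) h3
      have h5 : Cong P (s * t.prod) n :=
        cong_of_dc_eq hstN hn ((dc_eq_of_mem h2).symm.trans (dc_eq_of_mem h4))
      have h6 : Cong P (s * n) t.prod := (h5.symm.mul_left s).trans (cong_cancel hs htN)
      have := len_congr (mul_mem (P.subset hs) hn) h6
      omega

theorem exists_smul_mem_dc_self {s : G} (hs : s ∈ P.S) : ∃ b ∈ P.B, s * b * s ∈ dc P s := by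
  by_contra hcon
  push Not at hcon
  have hsub : ∀ b ∈ P.B, s * b * s ∈ P.B := by
    intro b hb
    rcases smul_mem hs (P.subset hs) hb with h | h
    · obtain ⟨a, ha, c, hc, e⟩ := mem_dc.1 h
      rw [e]; exact mul_mem (mul_mem ha (P.sq_mem s hs)) hc
    · exact absurd h (hcon b hb)
  apply P.conj_ne s hs
  ext x
  constructor
  · rintro ⟨b, hb, rfl⟩; exact hsub b hb
  · intro hx
    refine ⟨(s * s)⁻¹ * (s * x * s) * (s * s)⁻¹, ?_, by group⟩
    exact mul_mem (mul_mem (inv_mem (P.sq_mem s hs)) (hsub x hx)) (inv_mem (P.sq_mem s hs))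

theorem exists_smul_mem_dc_of_le {s n : G} (hs : s ∈ P.S) (hn : n ∈ P.N)
    (hle : len P (s * n) ≤ len P n) : ∃ b ∈ P.B, s * b * n ∈ dc P n := by
  obtain ⟨b, hb, hbs⟩ := exists_smul_mem_dc_self hs
  obtain ⟨a, ha, c, hc, e⟩ := mem_dc.1 hbs
  have hsn : s * n ∈ P.N := mul_mem (P.subset hs) hn
  have hle' : len P (s * n) ≤ len P (s * (s * n)) := by
    rwa [len_congr (mul_mem (P.subset hs) hsn) (cong_cancel hs hn)]
  refine ⟨b * (s * s), mul_mem hb (P.sq_mem s hs), ?_⟩
  have h := smul_mem_dc_of_le hs hsn hle' hc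
  rw [(cong_cancel hs hn).dc_eq] at h
  have e2 : s * (b * (s * s)) * n = a * (s * c * (s * n)) * 1 := by
    calc s * (b * (s * s)) * n = (s * b * s) * (s * n) := by group
      _ = _ := by rw [e]; group
  rw [e2]
  exact mul_mem_dc ha (one_mem _) h

theorem len_mul_left_ne {s n : G} (hs : s ∈ P.S) (hn : n ∈ P.N) : len P (s * n) ≠ len P n := by
  intro h
  obtain ⟨b, hb, h1⟩ := exists_smul_mem_dc_of_le hs hn h.le
  have h2 := smul_mem_dc_of_le hs hn h.ge hb
  exact not_cong_mul_left hs hn
    (cong_of_dc_eq (mul_mem (P.subset hs) hn) hn ((dc_eq_of_mem h2).symm.trans (dc_eq_of_mem h1)))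

theorem len_mul_right_ne {s n : G} (hs : s ∈ P.S) (hn : n ∈ P.N) : len P (n * s) ≠ len P n := by
  have hsN := P.subset hs
  have h := len_mul_left_ne hs (inv_mem hn)
  rw [← len_congr (mul_mem (inv_mem hsN) (inv_mem hn)) ((cong_inv_self hs).mul_right (inv_mem hn)),
    ← mul_inv_rev, len_inv (mul_mem hn hsN), len_inv hn] at h
  exact h

theorem exchange {s : G} (hs : s ∈ P.S) {l : List G} (hl : IsWord P l)
    (hlt : len P (s * l.prod) < len P l.prod) :
    ∃ i < l.length, Cong P (s * l.prod) (l.eraseIdx i).prod := by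
  induction l using List.reverseRecOn with
  | nil => simp at hlt
  | append_singleton t r ih =>
    rw [isWord_append, isWord_cons] at hl
    obtain ⟨ht, hr, -⟩ := hl
    have hsN := P.subset hs
    have hrN := P.subset hr
    have htN := ht.prod_mem
    rw [List.prod_append, List.prod_singleton] at hlt ⊢
    by_cases hcase : len P (s * t.prod) < len P t.prod
    · obtain ⟨i, hi, hc⟩ := ih ht hcase
      refine ⟨i, by simp; omega, ?_⟩
      rw [List.eraseIdx_append_of_lt_length hi, List.prod_append, List.prod_singleton, ← mul_assoc]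
      exact hc.mul_right hrN
    · push Not at hcase
      obtain ⟨b, hb, hb1⟩ := exists_smul_mem_dc_of_le hs (mul_mem htN hrN) hlt.le
      have h2 := smul_mem_dc_of_le hs htN hcase hb
      obtain ⟨a, ha, c, hc, e⟩ := mem_dc.1 h2
      have e2 : s * b * (t.prod * r) = a * (s * t.prod * c * r) * 1 := by
        calc s * b * (t.prod * r) = (s * b * t.prod) * r := by group
          _ = _ := by rw [e]; group
      refine ⟨t.length, by simp, ?_⟩
      have herase : (t ++ [r]).eraseIdx t.length = t := by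
        rw [List.eraseIdx_append_of_length_le le_rfl]; simp
      rw [herase]
      rcases mul_smem hr (mul_mem hsN htN) hc with h3 | h3
      · have h4 : s * b * (t.prod * r) ∈ dc P (s * t.prod * r) := e2 ▸ mul_mem_dc ha (one_mem _) h3
        rw [mul_assoc s t.prod r] at h4
        exact absurd (cong_of_dc_eq (mul_mem hsN (mul_mem htN hrN)) (mul_mem htN hrN)
          ((dc_eq_of_mem h4).symm.trans (dc_eq_of_mem hb1)))
          (not_cong_mul_left hs (mul_mem htN hrN))
      · have h4 : s * b * (t.prod * r) ∈ dc P (s * t.prod) := e2 ▸ mul_mem_dc ha (one_mem _) h3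
        have h5 : Cong P (t.prod * r) (s * t.prod) :=
          cong_of_dc_eq (mul_mem htN hrN) (mul_mem hsN htN)
            ((dc_eq_of_mem hb1).symm.trans (dc_eq_of_mem h4))
        exact (h5.mul_left s).trans (cong_cancel hs htN)

/-- A word is reduced when its length is the length of its product. -/
def IsReduced (P : Cfsg.BNPair G) (l : List G) : Prop :=
  IsWord P l ∧ len P l.prod = l.length

theorem IsReduced.tail {s : G} {l : List G} (h : IsReduced P (s :: l)) : IsReduced P l := by
  obtain ⟨hw, hlen⟩ := h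
  rw [isWord_cons] at hw
  refine ⟨hw.2, le_antisymm (len_le hw.2 (Cong.refl _)) ?_⟩
  have := len_mul_left_le hw.1 hw.2.prod_mem
  simp at hlen
  omega

theorem exists_reduced_sublist {l : List G} (hl : IsWord P l) :
    ∃ l' : List G, l'.Sublist l ∧ IsReduced P l' ∧ Cong P l'.prod l.prod := by
  induction l with
  | nil => exact ⟨[], List.Sublist.refl _, ⟨isWord_nil, by simp⟩, Cong.refl _⟩
  | cons a t ih =>
    rw [isWord_cons] at hl
    obtain ⟨t', hsub, ⟨ht', htlen⟩, hc⟩ := ih hl.2
    by_cases hlt : len P (a * t'.prod) < len P t'.prod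
    · obtain ⟨i, hi, hic⟩ := exchange hl.1 ht' hlt
      have hw : IsWord P (t'.eraseIdx i) := fun x hx => ht' x (List.mem_of_mem_eraseIdx hx)
      refine ⟨t'.eraseIdx i, ((t'.eraseIdx_sublist i).trans hsub).trans (List.sublist_cons_self a t),
        ⟨hw, ?_⟩, ?_⟩
      · apply le_antisymm (len_le hw (Cong.refl _))
        have h1 := len_mul_left_le hl.1 (mul_mem (P.subset hl.1) ht'.prod_mem)
        rw [len_congr (mul_mem (P.subset hl.1) (mul_mem (P.subset hl.1) ht'.prod_mem))
          (cong_cancel hl.1 ht'.prod_mem), len_congr (mul_mem (P.subset hl.1) ht'.prod_mem) hic] at h1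
        rw [List.length_eraseIdx_of_lt hi]
        omega
      · rw [List.prod_cons]
        exact hic.symm.trans (hc.mul_left a)
    · refine ⟨a :: t', hsub.cons_cons a, ⟨isWord_cons.2 ⟨hl.1, ht'⟩, ?_⟩, ?_⟩
      · have h1 := len_mul_left_ne hl.1 ht'.prod_mem
        have h2 := len_mul_left_le hl.1 ht'.prod_mem
        simp
        omega
      · simpa using hc.mul_left a

variable (P) in
theorem parabolic_mem_iff {J : Set G} (hJ : J ⊆ P.S) {g : G} :
    g ∈ P.parabolic J ↔ ∃ n ∈ Subgroup.closure J, g ∈ dc P n := by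
  constructor
  · intro hg
    have key : ∀ l : List G, (∀ x ∈ l, x ∈ J ∨ x ∈ P.B) →
        ∃ n ∈ Subgroup.closure J, l.prod ∈ dc P n := by
      intro l hl
      induction l with
      | nil => exact ⟨1, one_mem _, by simpa using self_mem_dc (P := P) (1 : G)⟩
      | cons x t ih =>
        obtain ⟨n, hn, htn⟩ := ih fun y hy => hl y (List.mem_cons_of_mem _ hy)
        rw [List.prod_cons]
        rcases hl x List.mem_cons_self with hx | hx
        · obtain ⟨a, ha, b, hb, e⟩ := mem_dc.1 htn
          have hnN : n ∈ P.N := (Subgroup.closure_le (K := P.N)).2 (hJ.trans P.subset) hn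
          have e2 : x * t.prod = 1 * (x * a * n) * b := by rw [e]; group
          rcases smul_mem (hJ hx) hnN ha with h | h
          · exact ⟨x * n, mul_mem (Subgroup.subset_closure hx) hn,
              e2 ▸ mul_mem_dc (one_mem _) hb h⟩
          · exact ⟨n, hn, e2 ▸ mul_mem_dc (one_mem _) hb h⟩
        · exact ⟨n, hn, by simpa using mul_mem_dc hx (one_mem _) htn⟩
    have hg' : g ∈ Subgroup.closure (J ∪ P.B) := by
      rw [Subgroup.closure_union, Subgroup.closure_eq, sup_comm]
      exact hg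
    obtain ⟨l, hl, rfl⟩ : ∃ l : List G, (∀ x ∈ l, x ∈ J ∨ x ∈ P.B) ∧ l.prod = g := by
      clear hg
      induction hg' using Subgroup.closure_induction_left with
      | one => exact ⟨[], by simp, rfl⟩
      | mul_left x hx y _ ih =>
        obtain ⟨l, hl, rfl⟩ := ih
        exact ⟨x :: l, fun z hz => (List.mem_cons.1 hz).elim (fun h => h ▸ hx) (hl z), by simp⟩
      | inv_mul_cancel x hx y _ ih =>
        obtain ⟨l, hl, rfl⟩ := ih
        rcases hx with hx | hx
        · refine ⟨(x * x)⁻¹ :: x :: l, ?_, by simp [mul_assoc]⟩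
          intro z hz
          rcases List.mem_cons.1 hz with rfl | hz
          · exact Or.inr (inv_mem (P.sq_mem x (hJ hx)))
          · exact (List.mem_cons.1 hz).elim (fun h => h ▸ Or.inl hx) (hl z)
        · exact ⟨x⁻¹ :: l, fun z hz => (List.mem_cons.1 hz).elim
            (fun h => h ▸ Or.inr (inv_mem hx)) (hl z), by simp⟩
    exact key l hl
  · rintro ⟨n, hn, hg⟩
    obtain ⟨a, ha, b, hb, rfl⟩ := mem_dc.1 hg
    exact mul_mem (mul_mem (Subgroup.mem_sup_left ha) (Subgroup.mem_sup_right hn))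
      (Subgroup.mem_sup_left hb)

variable (P) in
theorem parabolic_S : P.parabolic P.S = ⊤ := by
  rw [eq_top_iff, ← P.sup_eq_top]
  refine sup_le le_sup_left ?_
  conv_lhs => rw [← P.closure_sup]
  exact sup_le le_sup_right (inf_le_left.trans le_sup_left)

variable (P) in
/-- Bruhat decomposition. -/
theorem bruhat (g : G) : ∃ n ∈ P.N, g ∈ dc P n := by
  obtain ⟨n, hn, h⟩ := (parabolic_mem_iff P (subset_refl _)).1
    (show g ∈ P.parabolic P.S by rw [parabolic_S]; exact Subgroup.mem_top g)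
  exact ⟨n, (Subgroup.closure_le (K := P.N)).2 P.subset hn, h⟩

/-- Every letter of a reduced word lies in any subgroup containing `B` and the product. -/
theorem letters_mem {M : Subgroup G} (hM : P.B ≤ M) {l : List G} (h : IsReduced P l)
    (hn : l.prod ∈ M) : ∀ x ∈ l, x ∈ M := by
  induction l with
  | nil => simp
  | cons s t ih =>
    have ht := h.tail
    obtain ⟨hw, hlen⟩ := h
    rw [isWord_cons] at hw
    rw [List.prod_cons] at hlen hn
    have hnN : s * t.prod ∈ P.N := mul_mem (P.subset hw.1) hw.2.prod_mem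
    have hle : len P (s * (s * t.prod)) ≤ len P (s * t.prod) := by
      rw [len_congr (mul_mem (P.subset hw.1) hnN) (cong_cancel hw.1 hw.2.prod_mem), hlen, ht.2]
      simp
    obtain ⟨b, hb, h1⟩ := exists_smul_mem_dc_of_le hw.1 hnN hle
    obtain ⟨a, ha, c, hc, e⟩ := mem_dc.1 h1
    have hsM : s ∈ M := by
      have : s = a * (s * t.prod) * c * (s * t.prod)⁻¹ * b⁻¹ := by rw [← e]; group
      rw [this]
      exact mul_mem (mul_mem (mul_mem (mul_mem (hM ha) hn) (hM hc)) (inv_mem hn)) (inv_mem (hM hb))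
    intro x hx
    rcases List.mem_cons.1 hx with rfl | hx
    · exact hsM
    · exact ih ht (by simpa using mul_mem (inv_mem hsM) hn) x hx

theorem eq_parabolic {M : Subgroup G} (hM : P.B ≤ M) :
    M = P.parabolic {s | s ∈ P.S ∧ s ∈ M} := by
  apply le_antisymm
  · intro g hg
    obtain ⟨n, hn, hgn⟩ := bruhat P g
    obtain ⟨a, ha, b, hb, rfl⟩ := mem_dc.1 hgn
    obtain ⟨l, hl, hlen, hc⟩ := exists_reduced hn
    have hnM : n ∈ M := by
      have : n = a⁻¹ * (a * n * b) * b⁻¹ := by group
      rw [this]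
      exact mul_mem (mul_mem (inv_mem (hM ha)) hg) (inv_mem (hM hb))
    have hlM : l.prod ∈ M := by
      have := mul_mem hnM (hM (inv_mem hc.1))
      simpa using this
    have hred : IsReduced P l := ⟨hl, by rw [hlen]; exact len_congr hl.prod_mem hc⟩
    have hmem := letters_mem hM hred hlM
    have hn' : n ∈ P.parabolic {s | s ∈ P.S ∧ s ∈ M} := by
      have h1 : l.prod ∈ P.parabolic {s | s ∈ P.S ∧ s ∈ M} :=
        list_prod_mem fun x hx => Subgroup.mem_sup_right
          (Subgroup.subset_closure ⟨hl x hx, hmem x hx⟩)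
      have := mul_mem h1 (Subgroup.mem_sup_left (T := Subgroup.closure {s | s ∈ P.S ∧ s ∈ M}) hc.1)
      simpa [Cfsg.BNPair.parabolic] using this
    exact mul_mem (mul_mem (Subgroup.mem_sup_left ha) hn') (Subgroup.mem_sup_left hb)
  · exact sup_le hM ((Subgroup.closure_le _).2 fun s hs => hs.2)

theorem not_mem_closure_diff {s : G} (hs : s ∈ P.S) :
    s ∉ Subgroup.closure (P.S \ {s}) ⊔ (P.B ⊓ P.N) := by
  intro h
  obtain ⟨l, hl, hc⟩ := exists_word_of_mem_closure Set.sdiff_subset h
  have hw : IsWord P l := fun x hx => (hl x hx).1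
  obtain ⟨l', hsub, ⟨hw', hlen⟩, hc'⟩ := exists_reduced_sublist hw
  have hlens : len P s ≤ 1 := len_le (l := [s]) (isWord_cons.2 ⟨hs, isWord_nil⟩) (by simp [Cong.refl])
  have hne : len P s ≠ 0 := fun h0 => not_mem_B hs ((len_eq_zero (P.subset hs)).1 h0)
  rw [len_congr hw'.prod_mem (hc'.trans hc)] at hlen
  obtain ⟨x, hx⟩ := List.length_eq_one_iff.1 (show l'.length = 1 by omega)
  subst hx
  have hxl := hl x (hsub.subset List.mem_cons_self)
  have := P.inj x hxl.1 s hs (by simpa using (hc'.trans hc).1)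
  exact hxl.2 this

theorem mem_of_mem_parabolic {J : Set G} (hJ : J ⊆ P.S) {s : G} (hs : s ∈ P.S)
    (h : s ∈ P.parabolic J) : s ∈ J := by
  by_contra hsJ
  obtain ⟨n, hn, hsn⟩ := (parabolic_mem_iff P hJ).1 h
  have hnN : n ∈ P.N := (Subgroup.closure_le (K := P.N)).2 (hJ.trans P.subset) hn
  have hc := cong_of_mem_dc (P.subset hs) hnN hsn
  apply not_mem_closure_diff hs
  have hsub : J ⊆ P.S \ {s} := fun x hx => ⟨hJ hx, fun e => hsJ (e ▸ hx)⟩
  have := mul_mem (Subgroup.mem_sup_left (T := P.B ⊓ P.N) (Subgroup.closure_mono hsub hn))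
    (Subgroup.mem_sup_right (S := Subgroup.closure (P.S \ {s})) (hc.symm : n⁻¹ * s ∈ P.B ⊓ P.N))
  simpa using this

theorem parabolic_injective {J K : Set G} (hJ : J ⊆ P.S) (hK : K ⊆ P.S)
    (h : P.parabolic J = P.parabolic K) : J = K := by
  ext s
  constructor <;> intro hs
  · exact mem_of_mem_parabolic hK (hJ hs) (h ▸ Subgroup.mem_sup_right (Subgroup.subset_closure hs))
  · exact mem_of_mem_parabolic hJ (hK hs) (h ▸ Subgroup.mem_sup_right (Subgroup.subset_closure hs))

theorem parabolic_mono {J K : Set G} (h : J ⊆ K) : P.parabolic J ≤ P.parabolic K :=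
  sup_le_sup_left (Subgroup.closure_mono h) _

theorem parabolic_inf {J K : Set G} (hJ : J ⊆ P.S) (hK : K ⊆ P.S) :
    P.parabolic J ⊓ P.parabolic K = P.parabolic (J ∩ K) := by
  refine le_antisymm ?_ (le_inf (parabolic_mono Set.inter_subset_left) (parabolic_mono Set.inter_subset_right))
  rw [eq_parabolic (P := P) (M := P.parabolic J ⊓ P.parabolic K) (le_inf le_sup_left le_sup_left)]
  exact parabolic_mono fun s hs =>
    ⟨mem_of_mem_parabolic hJ hs.1 hs.2.1, mem_of_mem_parabolic hK hs.1 hs.2.2⟩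

theorem mem_sup_conj {n : G} (hn : n ∈ P.N) :
    n ∈ P.B ⊔ P.B.map (MulAut.conj n).toMonoidHom := by
  suffices H : ∀ M : Subgroup G, P.B ≤ M → ∀ l : List G, IsReduced P l →
      (∀ b ∈ P.B, l.prod * b * l.prod⁻¹ ∈ M) → l.prod ∈ M by
    obtain ⟨l, hl, hlen, hc⟩ := exists_reduced hn
    set M := P.B ⊔ P.B.map (MulAut.conj n).toMonoidHom
    set u := l.prod⁻¹ * n with hu
    have huB : u ∈ P.B := hc.1
    have hlM := H M le_sup_left l ⟨hl, by rw [hlen]; exact len_congr hl.prod_mem hc⟩ fun b hb => by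
      refine Subgroup.mem_sup_right ⟨u⁻¹ * b * u, mul_mem (mul_mem (inv_mem huB) hb) huB, ?_⟩
      simp [hu, mul_assoc]
    have := mul_mem hlM (Subgroup.mem_sup_left (T := P.B.map (MulAut.conj n).toMonoidHom) huB)
    simpa [hu] using this
  intro M hM l
  induction l with
  | nil => intros; simp
  | cons s t ih =>
    intro hred hconj
    have ht := hred.tail
    obtain ⟨hw, hlen⟩ := hred
    rw [isWord_cons] at hw
    rw [List.prod_cons] at hlen hconj ⊢
    have hnN : s * t.prod ∈ P.N := mul_mem (P.subset hw.1) hw.2.prod_mem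
    have hle : len P (s * (s * t.prod)) ≤ len P (s * t.prod) := by
      rw [len_congr (mul_mem (P.subset hw.1) hnN) (cong_cancel hw.1 hw.2.prod_mem), hlen, ht.2]
      simp
    obtain ⟨b, hb, h1⟩ := exists_smul_mem_dc_of_le hw.1 hnN hle
    obtain ⟨a, ha, c, hc, e⟩ := mem_dc.1 h1
    have hsM : s ∈ M := by
      have : s = a * ((s * t.prod) * c * (s * t.prod)⁻¹) * b⁻¹ := by
        calc s = (s * b * (s * t.prod)) * (s * t.prod)⁻¹ * b⁻¹ := by group
          _ = _ := by rw [e]; group
      rw [this]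
      exact mul_mem (mul_mem (hM ha) (hconj c hc)) (inv_mem (hM hb))
    refine mul_mem hsM (ih ht fun b hb => ?_)
    have := mul_mem (mul_mem (inv_mem hsM) (hconj b hb)) hsM
    simpa [mul_assoc] using this

theorem sup_closure_eq_sup_conj {n : G} (hn : n ∈ P.N) :
    P.B ⊔ Subgroup.closure {n} = P.B ⊔ P.B.map (MulAut.conj n).toMonoidHom := by
  apply le_antisymm
  · exact sup_le le_sup_left ((Subgroup.closure_le _).2 (by simpa using mem_sup_conj hn))
  · refine sup_le le_sup_left ?_
    rintro _ ⟨b, hb, rfl⟩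
    have hn' : n ∈ P.B ⊔ Subgroup.closure {n} :=
      Subgroup.mem_sup_right (Subgroup.subset_closure rfl)
    simpa using mul_mem (mul_mem hn' (Subgroup.mem_sup_left hb)) (inv_mem hn')

/-- If `g` conjugates a subgroup containing `B` into a subgroup containing `B`, then `g` lies in the latter. -/
theorem mem_of_conj_le {M K : Subgroup G} (hM : P.B ≤ M) (hK : P.B ≤ K) {g : G}
    (h : ∀ x ∈ M, g * x * g⁻¹ ∈ K) : g ∈ K := by
  obtain ⟨n, hn, hg⟩ := bruhat P g
  obtain ⟨a, ha, b, hb, rfl⟩ := mem_dc.1 hg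
  have hle : P.B ⊔ P.B.map (MulAut.conj n).toMonoidHom ≤ K := by
    refine sup_le hK ?_
    rintro _ ⟨x, hx, rfl⟩
    have := mul_mem (mul_mem (inv_mem (hK ha))
      (h (b⁻¹ * x * b) (hM (mul_mem (mul_mem (inv_mem hb) hx) hb)))) (hK ha)
    simpa [mul_assoc] using this
  exact mul_mem (mul_mem (hK ha) (hle (mem_sup_conj hn))) (hK hb)

end Cfsg.Lib.BN
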