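import Cfsg.Agent.BN.Basic

/-! Simplicity criterion, rank one, and rank one pairs from doubly transitive actions. -/

set_option autoImplicit false

open scoped Pointwise

namespace Cfsg.Lib.BN

variable {G : Type*} [Group G] {P : Cfsg.BNPair G}

theorem union_isSubgroup_iff {n : G} (hn : n ∈ P.N) (hnB : n ∉ P.B) :
    (∃ H : Subgroup G, (H : Set G) = (P.B : Set G) ∪ DoubleCoset.doubleCoset n (P.B : Set G) P.B) ↔
      ∃ s ∈ P.S, s⁻¹ * n ∈ P.B := by
  constructor
  · rintro ⟨H, hH⟩
    have hBH : P.B ≤ H := fun x hx => by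
      rw [← SetLike.mem_coe, hH]; exact Or.inl hx
    have hnH : n ∈ H := by
      rw [← SetLike.mem_coe, hH]; exact Or.inr (self_mem_dc n)
    have he := eq_parabolic (P := P) hBH
    obtain ⟨s, hs, hsH⟩ : ∃ s, s ∈ P.S ∧ s ∈ H := by
      by_contra hcon
      push Not at hcon
      have : {s | s ∈ P.S ∧ s ∈ H} = ∅ := Set.eq_empty_iff_forall_notMem.2 fun s hs => hcon s hs.1 hs.2
      rw [this] at he
      rw [he] at hnH
      simp [Cfsg.BNPair.parabolic] at hnH
      exact hnB hnH
    refine ⟨s, hs, ?_⟩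
    rw [← SetLike.mem_coe, hH] at hsH
    rcases hsH with h | h
    · exact absurd h (not_mem_B hs)
    · exact (cong_of_mem_dc (P.subset hs) hn h).1
  · rintro ⟨s, hs, hsn⟩
    have hc : Cong P s n := Subgroup.mem_inf.2 ⟨hsn, mul_mem (inv_mem (P.subset hs)) hn⟩
    refine ⟨P.parabolic {s}, Set.ext fun g => ⟨fun hg => ?_, fun hg => ?_⟩⟩
    · obtain ⟨m, hm, hgm⟩ := (parabolic_mem_iff P (by simpa using hs)).1 hg
      obtain ⟨l, hl, hlm⟩ := exists_word_of_mem_closure (P := P) (J := {s}) (by simpa using hs)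
        (Subgroup.mem_sup_left hm)
      obtain ⟨l', hsub, hred, hc'⟩ := exists_reduced_sublist (P := P) (l := l)
        (fun x hx => (Set.mem_singleton_iff.1 (hl x hx)) ▸ hs)
      rw [← (hc'.trans hlm).dc_eq] at hgm
      match l', hsub, hred, hgm with
      | [], _, _, hgm =>
        left
        obtain ⟨a, ha, b, hb, rfl⟩ := mem_dc.1 hgm
        simpa using mul_mem ha hb
      | [x], hsub, _, hgm =>
        right
        have hx : x = s := hl x (hsub.subset List.mem_cons_self)
        rw [List.prod_singleton, hx, hc.dc_eq] at hgm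
        exact hgm
      | x :: y :: t, hsub, hred, _ =>
        exfalso
        have hx : x = s := hl x (hsub.subset (by simp))
        have hy : y = s := hl y (hsub.subset (by simp))
        subst hx; subst hy
        obtain ⟨hw, hlen⟩ := hred
        have ht : IsWord P t := fun z hz => hw z (by simp [hz])
        have : len P ((y :: y :: t).prod) ≤ t.length :=
          len_le ht (by simpa using (cong_cancel hs ht.prod_mem).symm)
        simp at hlen this
        omega
    · rcases hg with hg | hg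
      · exact Subgroup.mem_sup_left hg
      · change g ∈ dc P n at hg
        rw [← hc.dc_eq] at hg
        exact (parabolic_mem_iff P (by simpa using hs)).2
          ⟨s, Subgroup.subset_closure rfl, hg⟩

theorem smem_parabolic {s : G} {J : Set G} (h : s ∈ J) : s ∈ P.parabolic J :=
  Subgroup.mem_sup_right (Subgroup.subset_closure h)

/-- If `B` together with a normal subgroup is `P_J`, then `J` commutes with the rest of `S` in `W`. -/
theorem comm_of_normal_sup {H : Subgroup G} [H.Normal] {J : Set G}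
    (hJ : J ⊆ P.S) (hHJ : H ⊔ P.B = P.parabolic J) {r s : G} (hr : r ∈ J) (hs : s ∈ P.S) (hsJ : s ∉ J) :
    r * s * r⁻¹ * s⁻¹ ∈ P.B := by
  have hrS := hJ hr
  have hrN := P.subset hrS
  have hsN := P.subset hs
  have hsP : s ∉ P.parabolic J := fun h => hsJ (mem_of_mem_parabolic hJ hs h)
  have hrP : r ∈ P.parabolic J := smem_parabolic hr
  have hBP : P.B ≤ P.parabolic J := le_sup_left
  have hsrN : s * r ∈ P.N := mul_mem hsN hrN
  have hlen1 : ∀ {x : G}, x ∈ P.S → len P x = 1 := by
    intro x hx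
    have h1 : len P x ≤ 1 := len_le (l := [x]) (isWord_cons.2 ⟨hx, isWord_nil⟩) (by simp [Cong.refl])
    have h2 : len P x ≠ 0 := fun h => not_mem_B hx ((len_eq_zero (P.subset hx)).1 h)
    omega
  have hsr2 : len P (s * r) = 2 := by
    have h1 := len_mul_left_le hs hrN
    have h2 := len_mul_left_ne hs hrN
    have h3 : len P (s * r) ≠ 0 := by
      intro h
      apply hsP
      have := mul_mem (hBP ((len_eq_zero hsrN).1 h)) (inv_mem hrP)
      simpa using this
    rw [hlen1 hrS] at h1 h2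
    omega
  obtain ⟨h, hh, b, hb, hhb⟩ : ∃ h ∈ H, ∃ b ∈ P.B, h * b = r := by
    have := hrP; rw [← hHJ, ← SetLike.mem_coe, Subgroup.normal_mul] at this
    exact Set.mem_mul.1 this
  have hh2 : s * h * s⁻¹ ∈ H := Subgroup.Normal.conj_mem inferInstance h hh s
  have hle : H ≤ P.parabolic J := le_sup_left.trans hHJ.le
  -- `s h s⁻¹ = s r (b⁻¹ (s*s)⁻¹) s`
  have hb' : b⁻¹ * (s * s)⁻¹ ∈ P.B := mul_mem (inv_mem hb) (inv_mem (P.sq_mem s hs))
  have e : s * h * s⁻¹ = s * r * (b⁻¹ * (s * s)⁻¹) * s := by rw [← hhb]; group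
  rcases mul_smem hs hsrN hb' with hc | hc
  · rw [← e] at hc
    have hsrs : s * r * s ∈ P.parabolic J := by
      obtain ⟨a, ha, c, hc', e2⟩ := mem_dc.1 hc
      have : s * r * s = a⁻¹ * (s * h * s⁻¹) * c⁻¹ := by rw [e2]; group
      rw [this]
      exact mul_mem (mul_mem (inv_mem (hBP ha)) (hle hh2)) (inv_mem (hBP hc'))
    have hw : IsWord P [s, r, s] := by simp [IsWord, hs, hrS]
    obtain ⟨l, hsub, hred, hcl⟩ := exists_reduced_sublist hw
    have hcl' : Cong P l.prod (s * r * s) := by simpa [mul_assoc] using hcl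
    have hlP : l.prod ∈ P.parabolic J := by
      have he : l.prod = (s * r * s) * (l.prod⁻¹ * (s * r * s))⁻¹ := by group
      rw [he]
      exact mul_mem hsrs (inv_mem (hBP hcl'.1))
    have hmem : ∀ x ∈ l, x = r := by
      intro x hx
      have h1 := letters_mem hBP hred hlP x hx
      have h2 := hsub.subset hx
      simp at h2
      rcases h2 with rfl | rfl | rfl
      · exact absurd h1 hsP
      · rfl
      · exact absurd h1 hsP
    have hlen : len P (s * r * s) = l.length := (len_congr hred.1.prod_mem hcl').symm.trans hred.2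
    have hle1 : l.length ≤ 1 := by
      by_contra hcon
      obtain ⟨u, v, t, rfl⟩ : ∃ u v t, l = u :: v :: t := by
        rcases l with _ | ⟨u, _ | ⟨v, t⟩⟩ <;> simp at hcon ⊢
      have hu := hmem u (by simp)
      have hv := hmem v (by simp)
      subst hu; subst hv
      obtain ⟨hw', hlen'⟩ := hred
      have ht : IsWord P t := fun z hz => hw' z (by simp [hz])
      have : len P ((v :: v :: t).prod) ≤ t.length :=
        len_le ht (by simpa using (cong_cancel hrS ht.prod_mem).symm)
      simp at hlen' this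
      omega
    have hge : 1 ≤ l.length := by
      have h1 := len_mul_right_le hs (mul_mem hsrN hsN)
      have h2 : Cong P (s * r * s * s) (s * r) := by
        simpa [mul_assoc] using (cong_mul_self hs).mul_left (s * r)
      rw [len_congr (mul_mem (mul_mem hsrN hsN) hsN) h2, hsr2] at h1
      omega
    obtain ⟨x, rfl⟩ := List.length_eq_one_iff.1 (le_antisymm hle1 hge)
    rw [hmem x (by simp), List.prod_singleton] at hcl'
    -- `s r s ≡ r`
    have h4 : Cong P (r * s) (s * r) := (hcl'.mul_right hsN).trans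
      (by simpa [mul_assoc] using (cong_mul_self hs).mul_left (s * r))
    have h5 := conj_mem_inf (P := P) (mul_mem hrN hsN) (inv_mem h4)
    have h6 : r * s * ((r * s)⁻¹ * (s * r))⁻¹ * (r * s)⁻¹ = r * s * r⁻¹ * s⁻¹ := by group
    exact (Subgroup.mem_inf.1 (h6 ▸ h5)).1
  · exfalso
    rw [← e] at hc
    obtain ⟨a, ha, c, hc', e2⟩ := mem_dc.1 hc
    apply hsP
    have h1 : s * r ∈ P.parabolic J := by
      have : s * r = a⁻¹ * (s * h * s⁻¹) * c⁻¹ := by rw [e2]; group
      rw [this]
      exact mul_mem (mul_mem (inv_mem (hBP ha)) (hle hh2)) (inv_mem (hBP hc'))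
    simpa using mul_mem h1 (inv_mem hrP)

theorem simple_of_irreducible (P : Cfsg.BNPair G) [Nontrivial G] (hirr : P.Irreducible)
    (hsolv : Group.IsSolvable P.B) (hperf : commutator G = ⊤) (hcore : P.B.normalCore = ⊥) :
    IsSimpleGroup G := by
  refine ⟨fun H hH => ?_⟩
  set J : Set G := {s | s ∈ P.S ∧ s ∈ H ⊔ P.B}
  have hHJ : H ⊔ P.B = P.parabolic J := eq_parabolic le_sup_right
  have hJ : J ⊆ P.S := fun s hs => hs.1
  rcases Set.eq_empty_or_nonempty J with hJe | hJne
  · left
    rw [hJe] at hHJ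
    have hHB : H ≤ P.B := by
      have h0 : P.parabolic ∅ = P.B := by simp [Cfsg.BNPair.parabolic]
      exact h0 ▸ le_sup_left.trans hHJ.le
    have := (Subgroup.normal_le_normalCore).2 hHB
    rwa [hcore, le_bot_iff] at this
  by_cases hrest : (P.S \ J).Nonempty
  · obtain ⟨r, hr, s, hs, hrs⟩ := hirr J hJ hJne hrest
    exact absurd (comm_of_normal_sup hJ hHJ hr hs.1 hs.2) hrs
  · right
    have hJS : J = P.S := le_antisymm hJ fun s hs => by
      by_contra h; exact hrest ⟨s, hs, h⟩
    rw [hJS, parabolic_S] at hHJ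
    have hsur : Function.Surjective ((QuotientGroup.mk' H).comp P.B.subtype) := by
      intro q
      obtain ⟨g, rfl⟩ := QuotientGroup.mk'_surjective H q
      have hg : g ∈ (H : Set G) * (P.B : Set G) := by
        rw [← Subgroup.normal_mul, hHJ]; trivial
      obtain ⟨h, hh, b, hb, rfl⟩ := Set.mem_mul.1 hg
      refine ⟨⟨b, hb⟩, (QuotientGroup.eq).2 ?_⟩
      simpa [mul_assoc] using Subgroup.Normal.conj_mem hH h hh b⁻¹
    have := hsolv
    have hq : Group.IsSolvable (G ⧸ H) := Group.isSolvable_of_surjective hsur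
    by_contra hne
    have hq1 : commutator (G ⧸ H) = ⊤ := by
      rw [commutator_def] at hperf ⊢
      have hmap := Subgroup.map_commutator (⊤ : Subgroup G) ⊤ (QuotientGroup.mk' H)
      rw [hperf, Subgroup.map_top_of_surjective _ (QuotientGroup.mk'_surjective H)] at hmap
      exact hmap.symm
    have hnt : Nontrivial (G ⧸ H) := by
      rw [QuotientGroup.nontrivial_iff]; exact hne
    exact (Group.IsSolvable.commutator_lt_top_of_nontrivial (G ⧸ H)).ne hq1

theorem twoTransitive_of_rank_one (P : Cfsg.BNPair G) (h : P.rank = 1) :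
    MulAction.IsMultiplyPretransitive G (G ⧸ P.B) 2 := by
  obtain ⟨hss, hne⟩ := Nat.card_eq_one_iff_unique.1 h
  obtain ⟨⟨s, hs⟩⟩ := hne
  have hS : P.S = {s} := Set.eq_singleton_iff_unique_mem.2
    ⟨hs, fun x hx => congrArg Subtype.val (hss.elim ⟨x, hx⟩ ⟨s, hs⟩)⟩
  have hB : ∀ g : G, g ∉ P.B → g ∈ dc P s := by
    intro g hg
    obtain ⟨H, hH⟩ := (union_isSubgroup_iff (P.subset hs) (not_mem_B hs)).2 ⟨s, hs, by simp⟩
    have hle : P.parabolic {s} ≤ H := by
      refine sup_le (fun x hx => ?_) ((Subgroup.closure_le _).2 ?_)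
      · rw [← SetLike.mem_coe, hH]; exact Or.inl hx
      · rw [Set.singleton_subset_iff, hH]; exact Or.inr (self_mem_dc s)
    rw [← hS, parabolic_S] at hle
    have : g ∈ (H : Set G) := hle (Subgroup.mem_top g)
    rw [hH] at this
    exact this.resolve_left hg
  rw [MulAction.is_two_pretransitive_iff]
  have key : ∀ {x y : G ⧸ P.B}, x ≠ y → ∃ g : G,
      g • ((1 : G) : G ⧸ P.B) = x ∧ g • ((s : G) : G ⧸ P.B) = y := by
    intro x y hxy
    obtain ⟨g, rfl⟩ := QuotientGroup.mk_surjective x
    obtain ⟨k, rfl⟩ := QuotientGroup.mk_surjective y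
    obtain ⟨a, ha, b, hb, e⟩ := mem_dc.1 (hB (g⁻¹ * k) fun h => hxy (QuotientGroup.eq.2 h))
    refine ⟨g * a, ?_, ?_⟩
    · rw [MulAction.Quotient.smul_coe, smul_eq_mul, mul_one, QuotientGroup.eq]
      simpa using inv_mem ha
    · rw [MulAction.Quotient.smul_coe, smul_eq_mul, QuotientGroup.eq]
      have : (g * a * s)⁻¹ * k = b := by
        have hk : k = g * (g⁻¹ * k) := by group
        rw [hk, e]; group
      rw [this]; exact hb
  intro a b c d hab hcd
  obtain ⟨g, hga, hgb⟩ := key hab
  obtain ⟨k, hkc, hkd⟩ := key hcd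
  exact ⟨k * g⁻¹, by rw [← hga, mul_smul, inv_smul_smul, hkc],
    by rw [← hgb, mul_smul, inv_smul_smul, hkd]⟩

theorem exists_of_twoTransitive {Ω : Type*} [MulAction G Ω]
    (h2 : MulAction.IsMultiplyPretransitive G Ω 2) {x y z : Ω} (hxy : x ≠ y) (hyz : y ≠ z)
    (hxz : x ≠ z) :
    ∃ P : Cfsg.BNPair G, P.B = MulAction.stabilizer G x ∧
      P.N = MulAction.stabilizer G ({x, y} : Set Ω) ∧ P.rank = 1 := by
  rw [MulAction.is_two_pretransitive_iff] at h2
  obtain ⟨s, hsx, hsy⟩ := h2 hxy hxy.symm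
  set B := MulAction.stabilizer G x with hBdef
  set N := MulAction.stabilizer G ({x, y} : Set Ω) with hNdef
  have hN : ∀ g : G, g ∈ N ↔ (g • x = x ∧ g • y = y) ∨ (g • x = y ∧ g • y = x) := by
    intro g
    rw [hNdef, MulAction.mem_stabilizer_iff, Set.smul_set_insert, Set.smul_set_singleton]
    exact Set.pair_eq_pair_iff
  have hBmem : ∀ g : G, g ∈ B ↔ g • x = x := fun g => MulAction.mem_stabilizer_iff
  have hsN : s ∈ N := (hN s).2 (Or.inr ⟨hsx, hsy⟩)
  have hT : ∀ g : G, g ∈ B ⊓ N → g • x = x ∧ g • y = y := by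
    intro g hg
    rw [Subgroup.mem_inf, hBmem, hN] at hg
    rcases hg.2 with h | h
    · exact h
    · exact absurd (hg.1.symm.trans h.1) hxy
  have hcover : ∀ g : G, g ∈ B ∨ g ∈ DoubleCoset.doubleCoset s (B : Set G) B := by
    intro g
    by_cases hg : g • x = x
    · exact Or.inl ((hBmem g).2 hg)
    · obtain ⟨b, hbx, hby⟩ := h2 hxy (Ne.symm hg)
      refine Or.inr (DoubleCoset.mem_doubleCoset.2 ⟨b, (hBmem b).2 hbx, (b * s)⁻¹ * g, ?_, by group⟩)
      apply (hBmem _).2
      rw [mul_smul, inv_smul_eq_iff, mul_smul, hsx, hby]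
  have hNle : N ≤ Subgroup.closure {s} ⊔ (B ⊓ N) := by
    intro g hg
    rcases (hN g).1 hg with h | h
    · exact Subgroup.mem_sup_right (Subgroup.mem_inf.2 ⟨(hBmem g).2 h.1, hg⟩)
    · have h1 : s⁻¹ * g ∈ B ⊓ N := Subgroup.mem_inf.2 ⟨(hBmem _).2
        (by rw [mul_smul, h.1, inv_smul_eq_iff, hsx]), mul_mem (inv_mem hsN) hg⟩
      have := mul_mem (Subgroup.mem_sup_left (T := B ⊓ N) (Subgroup.subset_closure rfl : s ∈ Subgroup.closure {s}))
        (Subgroup.mem_sup_right h1)
      simpa using this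
  refine ⟨{
    B := B
    N := N
    S := {s}
    sup_eq_top := ?_
    conj_mem := ?_
    subset := by simpa using hsN
    sq_mem := ?_
    inj := ?_
    closure_sup := ?_
    mul_mem_union := ?_
    conj_ne := ?_ }, rfl, rfl, by simp [Cfsg.BNPair.rank]⟩
  · rw [eq_top_iff]
    intro g _
    rcases hcover g with h | h
    · exact Subgroup.mem_sup_left h
    · obtain ⟨a, ha, b, hb, rfl⟩ := DoubleCoset.mem_doubleCoset.1 h
      exact mul_mem (mul_mem (Subgroup.mem_sup_left ha) (Subgroup.mem_sup_right hsN))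
        (Subgroup.mem_sup_left hb)
  · intro n hn t ht
    obtain ⟨htx, hty⟩ := hT t ht
    apply (hBmem _).2
    rcases (hN n⁻¹).1 (Subgroup.inv_mem _ hn) with h | h
    · rw [mul_smul, mul_smul, h.1, htx, ← inv_inv n, inv_smul_eq_iff, h.1]
    · rw [mul_smul, mul_smul, h.1, hty, ← inv_inv n, inv_smul_eq_iff, h.1]
  · rintro t rfl
    exact (hBmem _).2 (by rw [mul_smul, hsx, hsy])
  · rintro a rfl b rfl _; rfl
  · exact le_antisymm (sup_le ((Subgroup.closure_le _).2 (by simpa using hsN)) inf_le_right) hNle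
  · rintro t rfl n hn b hb
    rcases (hN n).1 hn with h | h
    · have hnB : n ∈ B := (hBmem n).2 h.1
      rcases hcover (t * b * n) with h' | h'
      · right
        exact DoubleCoset.mem_doubleCoset.2 ⟨t * b * n, h', n⁻¹, inv_mem hnB, by group⟩
      · left
        obtain ⟨a, ha, c, hc, e⟩ := DoubleCoset.mem_doubleCoset.1 h'
        exact DoubleCoset.mem_doubleCoset.2 ⟨a, ha, n⁻¹ * c, mul_mem (inv_mem hnB) hc,
          by rw [e]; group⟩
    · have hsn : t * n ∈ B := (hBmem _).2 (by rw [mul_smul, h.1, hsy])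
      rcases hcover (t * b * n) with h' | h'
      · left
        exact DoubleCoset.mem_doubleCoset.2 ⟨t * b * n, h', (t * n)⁻¹, inv_mem hsn, by group⟩
      · right
        obtain ⟨a, ha, c, hc, e⟩ := DoubleCoset.mem_doubleCoset.1 h'
        have hu : n⁻¹ * t ∈ B := (hBmem _).2 (by rw [mul_smul, hsx, inv_smul_eq_iff, h.1])
        exact DoubleCoset.mem_doubleCoset.2 ⟨a, ha, n⁻¹ * t * c, mul_mem hu hc, by rw [e]; group⟩
  · rintro t rfl hcon
    obtain ⟨b, hbx, hby⟩ := h2 hxy hxz
    have : t * b * t ∈ (fun b : G => t * b * t) '' (B : Set G) := ⟨b, (hBmem b).2 hbx, rfl⟩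
    rw [hcon, SetLike.mem_coe, hBmem, mul_smul, mul_smul, hsx, hby] at this
    have hz : t • z = t • y := this.trans hsy.symm
    exact hyz (MulAction.injective t hz).symm

end Cfsg.Lib.BN
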