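import Cfsg.Agent.BN.Basic

/-! The Weyl group of a (B,N)-pair is a Coxeter group (Matsumoto's argument from the exchange condition). -/

set_option autoImplicit false

namespace Cfsg.Lib.BN

variable {G : Type*} [Group G] {P : Cfsg.BNPair G}

/-- The alternating list `[a, b, a, …]` of the given length. -/
def alt {α : Type*} (a b : α) : ℕ → List α
  | 0 => []
  | n + 1 => a :: alt b a n

theorem length_alt {α : Type*} (a b : α) (n : ℕ) : (alt a b n).length = n := by
  induction n generalizing a b with
  | zero => rfl
  | succ n ih => simp [alt, ih]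

theorem mem_alt {α : Type*} {a b x : α} {n : ℕ} (h : x ∈ alt a b n) : x = a ∨ x = b := by
  induction n generalizing a b with
  | zero => simp [alt] at h
  | succ n ih =>
    simp [alt] at h
    rcases h with h | h
    · exact Or.inl h
    · exact (ih h).symm

theorem alt_prod {H : Type*} [Group H] {a b : H} (ha : a * a = 1) (hb : b * b = 1) (n : ℕ) :
    (alt a b n).prod * ((alt b a n).prod)⁻¹ = (a * b) ^ n := by
  induction n generalizing a b with
  | zero => simp [alt]
  | succ n ih =>
    simp only [alt, List.prod_cons]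
    have e : a * (alt b a n).prod * (b * (alt a b n).prod)⁻¹ =
        a * ((alt b a n).prod * ((alt a b n).prod)⁻¹) * b⁻¹ := by group
    rw [e, ih hb ha, inv_eq_of_mul_eq_one_right hb]
    clear e ih
    induction n with
    | zero => simp
    | succ n ih =>
      rw [pow_succ (a * b) (n + 1), ← ih, pow_succ]
      simp only [mul_assoc]

theorem map_alt {α β : Type*} (f : α → β) (a b : α) (n : ℕ) :
    (alt a b n).map f = alt (f a) (f b) n := by
  induction n generalizing a b with
  | zero => rfl
  | succ n ih => simp [alt, ih]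

theorem IsReduced.of_append_left {l m : List G} (h : IsReduced P (l ++ m)) : IsReduced P l := by
  obtain ⟨hw, hlen⟩ := h
  rw [isWord_append] at hw
  refine ⟨hw.1, le_antisymm (len_le hw.1 (Cong.refl _)) ?_⟩
  obtain ⟨l', hl', hl'len, hc⟩ := exists_reduced (n := l.prod) hw.1.prod_mem
  have := len_le (n := (l ++ m).prod) (isWord_append.2 ⟨hl', hw.2⟩)
    (by simpa using hc.mul_right hw.2.prod_mem)
  simp at hlen this
  omega

theorem not_isReduced_pair {s : G} (hs : s ∈ P.S) (p t : List G) :
    ¬ IsReduced P (p ++ s :: s :: t) := by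
  rintro ⟨hw, hlen⟩
  have hw' : IsWord P (p ++ t) := fun x hx => hw x (by
    simp at hx ⊢; tauto)
  have ht : IsWord P t := fun x hx => hw x (by simp [hx])
  have hle := len_le (n := (p ++ s :: s :: t).prod) hw' (by
    simpa using (cong_cancel hs ht.prod_mem).symm.mul_left p.prod)
  simp at hlen hle
  omega

theorem eraseIdx_alt {α : Type*} (a b : α) {j i : ℕ} (h1 : 1 ≤ i) (h2 : i + 1 < j) :
    ∃ p q : List α, ∃ c : α, (c = a ∨ c = b) ∧ (alt a b j).eraseIdx i = p ++ c :: c :: q := by
  induction i generalizing a b j with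
  | zero => omega
  | succ i ih =>
    obtain ⟨j, rfl⟩ : ∃ k, j = k + 1 := ⟨j - 1, by omega⟩
    simp only [alt, List.eraseIdx_cons_succ]
    rcases Nat.eq_zero_or_pos i with rfl | hi
    · obtain ⟨j, rfl⟩ : ∃ k, j = k + 2 := ⟨j - 2, by omega⟩
      exact ⟨[], alt b a j, a, Or.inl rfl, by simp [alt]⟩
    · obtain ⟨p, q, c, hc, e⟩ := ih b a hi (j := j) (by omega)
      exact ⟨a :: p, q, c, hc.symm, by simp [e]⟩

theorem alt_erase_last {α : Type*} (a b : α) (n : ℕ) :
    (alt a b (n + 1)).eraseIdx n = alt a b n := by
  induction n generalizing a b with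
  | zero => simp [alt]
  | succ n ih =>
    rw [show alt a b (n + 1 + 1) = a :: alt b a (n + 1) from rfl, List.eraseIdx_cons_succ, ih]
    rfl

section

variable [hN : ((P.B ⊓ P.N).subgroupOf P.N).Normal]

/-- The Weyl group. -/
abbrev Weyl (P : Cfsg.BNPair G) [((P.B ⊓ P.N).subgroupOf P.N).Normal] :=
  P.N ⧸ (P.B ⊓ P.N).subgroupOf P.N

/-- The image in the Weyl group of a distinguished generator. -/
def gen (P : Cfsg.BNPair G) [((P.B ⊓ P.N).subgroupOf P.N).Normal] (s : P.S) : Weyl P :=
  QuotientGroup.mk (⟨(s : G), P.subset s.2⟩ : P.N)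

theorem mk_eq_mk_iff {x y : P.N} :
    (QuotientGroup.mk x : Weyl P) = QuotientGroup.mk y ↔ Cong P (x : G) y := by
  rw [QuotientGroup.eq]; rfl

theorem gen_mul_self (s : P.S) : gen P s * gen P s = 1 :=
  (mk_eq_mk_iff (P := P) (x := (⟨(s : G), P.subset s.2⟩ : P.N) * (⟨(s : G), P.subset s.2⟩ : P.N))
    (y := (1 : P.N))).2 (cong_mul_self s.2)

/-- The Coxeter matrix of the pair. -/
noncomputable def coxMatrix (P : Cfsg.BNPair G) [((P.B ⊓ P.N).subgroupOf P.N).Normal] :
    CoxeterMatrix P.S where
  M := Matrix.of fun s t => orderOf (gen P s * gen P t)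
  isSymm := by
    ext s t
    simp only [Matrix.transpose_apply, Matrix.of_apply]
    have h : gen P t * gen P s = (gen P s * gen P t)⁻¹ := by
      rw [mul_inv_rev, inv_eq_of_mul_eq_one_right (gen_mul_self s),
        inv_eq_of_mul_eq_one_right (gen_mul_self t)]
    rw [h, orderOf_inv]
  diagonal s := by simp [gen_mul_self]
  off_diagonal s t hst := by
    simp only [Matrix.of_apply, ne_eq, orderOf_eq_one_iff]
    intro h
    have h2 : gen P s = gen P t := by
      rw [eq_inv_of_mul_eq_one_left h, inv_eq_of_mul_eq_one_right (gen_mul_self t)]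
    exact hst (Subtype.ext (P.inj s s.2 t t.2 ((mk_eq_mk_iff).1 h2).1))

open scoped Classical in
/-- The generator of the abstract Coxeter group attached to an element of `G`. -/
noncomputable def π (P : Cfsg.BNPair G) [((P.B ⊓ P.N).subgroupOf P.N).Normal] (g : G) :
    (coxMatrix P).Group :=
  if h : g ∈ P.S then (coxMatrix P).simple ⟨g, h⟩ else 1

/-- The value of a word in the abstract Coxeter group. -/
noncomputable def φ (P : Cfsg.BNPair G) [((P.B ⊓ P.N).subgroupOf P.N).Normal] (l : List G) :
    (coxMatrix P).Group := (l.map (π P)).prod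

theorem π_sq {s : G} (hs : s ∈ P.S) : π P s * π P s = 1 := by
  simp only [π, hs, dite_true]
  exact (coxMatrix P).toCoxeterSystem.simple_mul_simple_self ⟨s, hs⟩

theorem π_pow_eq_one {s r : G} (hs : s ∈ P.S) (hr : r ∈ P.S) {j : ℕ}
    (h : Cong P ((s * r) ^ j) 1) : (π P s * π P r) ^ j = 1 := by
  simp only [π, hs, hr, dite_true]
  have hdvd : (coxMatrix P).M ⟨s, hs⟩ ⟨r, hr⟩ ∣ j := by
    refine orderOf_dvd_of_pow_eq_one ?_
    exact (mk_eq_mk_iff (x := (⟨s, P.subset hs⟩ * ⟨r, P.subset hr⟩) ^ j) (y := 1)).2 (by simpa using h)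
  obtain ⟨c, rfl⟩ := hdvd
  rw [pow_mul]
  have := (coxMatrix P).toCoxeterSystem.simple_mul_simple_pow ⟨s, hs⟩ ⟨r, hr⟩
  rw [show ((coxMatrix P).simple ⟨s, hs⟩ * (coxMatrix P).simple ⟨r, hr⟩) ^
    (coxMatrix P).M ⟨s, hs⟩ ⟨r, hr⟩ = 1 from this, one_pow]

theorem φ_append (l m : List G) : φ P (l ++ m) = φ P l * φ P m := by simp [φ]

theorem φ_cons (a : G) (l : List G) : φ P (a :: l) = π P a * φ P l := by simp [φ]

/-- Matsumoto: reduced words with the same value in `W` have the same value in the Coxeter group. -/
theorem φ_eq_of_cong : ∀ {k : ℕ} {l m : List G}, IsReduced P l → IsReduced P m → l.length = k →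
    Cong P l.prod m.prod → φ P l = φ P m := by
  intro k
  induction k with
  | zero =>
    intro l m hl hm hk hc
    have : m.length = 0 := by
      rw [← hm.2, ← len_congr hl.1.prod_mem hc, hl.2, hk]
    rw [List.length_eq_zero_iff] at hk this
    rw [hk, this]
  | succ k ihk =>
    -- same first letter
    have same : ∀ {a : G} {l m : List G}, IsReduced P (a :: l) → IsReduced P (a :: m) →
        (a :: l).length = k + 1 → Cong P (a :: l).prod (a :: m).prod → φ P (a :: l) = φ P (a :: m) := by
      intro a l m hl hm hk hc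
      rw [φ_cons, φ_cons, ihk hl.tail hm.tail (by simpa using hk)]
      simpa [Cong, mul_assoc] using hc
    -- different first letters
    have main : ∀ d j : ℕ, 1 ≤ j → j + d = k + 1 → ∀ {s r : G}, s ∈ P.S → r ∈ P.S → s ≠ r →
        ∀ v : List G, IsReduced P (alt s r j ++ v) → v.length = d →
        len P (r * (alt s r j ++ v).prod) < k + 1 →
        ∀ y : List G, IsReduced P (r :: y) → Cong P (alt s r j ++ v).prod (r :: y).prod →
          φ P (alt s r j ++ v) = φ P (r :: y) := by
      intro d
      induction d using Nat.strong_induction_on with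
      | _ d ihd =>
        intro j hj hjd s r hs hr hsr v hx hv hlt y hy hc
        have hxlen : (alt s r j ++ v).length = k + 1 := by simp [length_alt]; omega
        obtain ⟨i, hi, hic⟩ := exchange hr hx.1 (by rw [hx.2, hxlen]; exact hlt)
        rw [hxlen] at hi
        have hcz : Cong P (r :: (alt s r j ++ v).eraseIdx i).prod (alt s r j ++ v).prod := by
          rw [List.prod_cons]
          exact (hic.symm.mul_left r).trans (cong_cancel hr hx.1.prod_mem)
        have hzw : IsWord P (r :: (alt s r j ++ v).eraseIdx i) :=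
          isWord_cons.2 ⟨hr, fun a ha => hx.1 a (List.mem_of_mem_eraseIdx ha)⟩
        have hzlen : (r :: (alt s r j ++ v).eraseIdx i).length = k + 1 := by
          rw [List.length_cons, List.length_eraseIdx_of_lt (by omega), hxlen]; omega
        have hz : IsReduced P (r :: (alt s r j ++ v).eraseIdx i) :=
          ⟨hzw, by rw [len_congr hzw.prod_mem hcz, hx.2, hxlen, hzlen]⟩
        have hzy : φ P (r :: (alt s r j ++ v).eraseIdx i) = φ P (r :: y) :=
          same hz hy hzlen (hcz.trans hc)
        by_cases hij : i < j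
        · rw [List.eraseIdx_append_of_lt_length (by rw [length_alt]; exact hij)] at hz hzy hcz
          have hvN : v.prod ∈ P.N := (isWord_append.1 hx.1).2.prod_mem
          have hred : IsReduced P (r :: (alt s r j).eraseIdx i) := hz.of_append_left (m := v)
          have hc2 : Cong P (r :: (alt s r j).eraseIdx i).prod (alt s r j).prod := by
            have := hcz.mul_right (inv_mem hvN)
            simpa [mul_assoc] using this
          have hij' : i = j - 1 := by
            by_contra hne
            rcases Nat.eq_zero_or_pos i with rfl | hipos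
            · obtain ⟨j, rfl⟩ : ∃ n, j = n + 2 := ⟨j - 2, by omega⟩
              simp [alt] at hred
              exact not_isReduced_pair hr [] _ hred
            · obtain ⟨p, q, c, hcc, e⟩ := eraseIdx_alt s r hipos (j := j) (by omega)
              rw [e] at hred
              have hcS : c ∈ P.S := hcc.elim (fun h => h ▸ hs) (fun h => h ▸ hr)
              exact not_isReduced_pair hcS (r :: p) q hred
          subst hij'
          obtain ⟨j, rfl⟩ : ∃ n, j = n + 1 := ⟨j - 1, by omega⟩
          simp only [Nat.add_sub_cancel, alt_erase_last] at hc2 hzy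
          have halt : ∀ n, r :: alt s r n = alt r s (n + 1) := fun n => rfl
          rw [halt] at hc2
          rw [← List.cons_append, halt] at hzy
          rw [← hzy, φ_append, φ_append]
          congr 1
          have hpow : (π P s * π P r) ^ (j + 1) = 1 := by
            apply π_pow_eq_one hs hr
            have h1 := congrArg (fun w : Weyl P => w)
              (alt_prod (gen_mul_self (P := P) ⟨s, hs⟩) (gen_mul_self (P := P) ⟨r, hr⟩) (j + 1))
            have key : ∀ (n : ℕ) (a b : G) (ha : a ∈ P.S) (hb : b ∈ P.S),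
                ∃ h : (alt a b n).prod ∈ P.N,
                (alt (gen P ⟨a, ha⟩) (gen P ⟨b, hb⟩) n).prod =
                  QuotientGroup.mk (⟨(alt a b n).prod, h⟩ : P.N) := by
              intro n
              induction n with
              | zero => intro a b ha hb; exact ⟨one_mem _, rfl⟩
              | succ n ih =>
                intro a b ha hb
                obtain ⟨h, e⟩ := ih b a hb ha
                refine ⟨mul_mem (P.subset ha) h, ?_⟩
                simp only [alt, List.prod_cons, e]
                rfl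
            obtain ⟨ha1, e1⟩ := key (j + 1) s r hs hr
            obtain ⟨ha2, e2⟩ := key (j + 1) r s hr hs
            rw [e1, e2] at h1
            have h3 : (QuotientGroup.mk (⟨(alt r s (j + 1)).prod, ha2⟩ : P.N) : Weyl P) =
                QuotientGroup.mk (⟨(alt s r (j + 1)).prod, ha1⟩ : P.N) := mk_eq_mk_iff.2 hc2
            rw [← h3, mul_inv_cancel] at h1
            exact (mk_eq_mk_iff (P := P)
              (x := ((⟨s, P.subset hs⟩ : P.N) * (⟨r, P.subset hr⟩ : P.N)) ^ (j + 1)) (y := (1 : P.N))).1
              h1.symm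
          unfold φ
          rw [map_alt, map_alt]
          rw [← mul_inv_eq_one, alt_prod (π_sq hs) (π_sq hr), hpow]
        · push Not at hij
          rw [List.eraseIdx_append_of_length_le (by rw [length_alt]; exact hij), length_alt] at hz hzy hcz
          have hvlen : (v.eraseIdx (i - j)).length + 1 = d := by
            rw [List.length_eraseIdx_of_lt (by omega)]; omega
          have hz' : IsReduced P (alt r s (j + 1) ++ v.eraseIdx (i - j)) := hz
          have hx' : IsReduced P (s :: ((alt r s (j - 1)) ++ v)) := by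
            obtain ⟨j, rfl⟩ : ∃ n, j = n + 1 := ⟨j - 1, by omega⟩
            simpa [alt] using hx
          have hxe : alt s r j ++ v = s :: ((alt r s (j - 1)) ++ v) := by
            obtain ⟨j, rfl⟩ : ∃ n, j = n + 1 := ⟨j - 1, by omega⟩
            simp [alt]
          have hlt' : len P (s * (alt r s (j + 1) ++ v.eraseIdx (i - j)).prod) < k + 1 := by
            rw [len_congr (mul_mem (P.subset hs) hz'.1.prod_mem) (hcz.mul_left s), hxe, List.prod_cons,
              len_congr (mul_mem (P.subset hs) (mul_mem (P.subset hs) hx'.tail.1.prod_mem))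
                (cong_cancel hs hx'.tail.1.prod_mem), hx'.tail.2]
            simp [length_alt]; omega
          have := ihd (v.eraseIdx (i - j)).length (by omega) (j + 1) (by omega) (by omega) hr hs
            (Ne.symm hsr) _ hz' rfl hlt' _ hx' (by rw [← hxe]; exact hcz)
          rw [← hzy, hxe, ← this]
          rfl
    intro l m hl hm hk hc
    have hmk : m.length = k + 1 := by
      rw [← hm.2, ← len_congr hl.1.prod_mem hc, hl.2, hk]
    cases l with
    | nil => simp at hk
    | cons s l =>
      cases m with
      | nil => simp at hmk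
      | cons r m =>
        by_cases hsr : s = r
        · subst hsr; exact same hl hm hk hc
        · have hs : s ∈ P.S := (isWord_cons.1 hl.1).1
          have hr : r ∈ P.S := (isWord_cons.1 hm.1).1
          have hlt : len P (r * (s :: l).prod) < k + 1 := by
            rw [len_congr (mul_mem (P.subset hr) hl.1.prod_mem) (hc.mul_left r), List.prod_cons,
              len_congr (mul_mem (P.subset hr) (mul_mem (P.subset hr) hm.tail.1.prod_mem))
                (cong_cancel hr hm.tail.1.prod_mem), hm.tail.2]
            simp at hmk ⊢; omega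
          exact main k 1 le_rfl (by omega) hs hr hsr l hl (by simpa using hk) hlt m hm hc

theorem φ_eq_reduced {l : List G} (hl : IsWord P l) :
    ∃ m : List G, IsReduced P m ∧ Cong P m.prod l.prod ∧ φ P l = φ P m := by
  induction l with
  | nil => exact ⟨[], ⟨isWord_nil, by simp⟩, Cong.refl _, rfl⟩
  | cons a t ih =>
    rw [isWord_cons] at hl
    obtain ⟨m, ⟨hm, hmlen⟩, hc, he⟩ := ih hl.2
    by_cases hlt : len P (a * m.prod) < len P m.prod
    · obtain ⟨i, hi, hic⟩ := exchange hl.1 hm hlt
      have hw : IsWord P (m.eraseIdx i) := fun x hx => hm x (List.mem_of_mem_eraseIdx hx)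
      have hc2 : Cong P (a :: m.eraseIdx i).prod m.prod := by
        rw [List.prod_cons]
        exact (hic.symm.mul_left a).trans (cong_cancel hl.1 hm.prod_mem)
      have hw2 : IsWord P (a :: m.eraseIdx i) := isWord_cons.2 ⟨hl.1, hw⟩
      have hred : IsReduced P (a :: m.eraseIdx i) := by
        refine ⟨hw2, ?_⟩
        rw [len_congr hw2.prod_mem hc2, hmlen, List.length_cons, List.length_eraseIdx_of_lt hi]
        omega
      refine ⟨m.eraseIdx i, hred.tail, ?_, ?_⟩
      · rw [List.prod_cons]; exact hic.symm.trans (hc.mul_left a)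
      · rw [φ_cons, he, φ_eq_of_cong ⟨hm, hmlen⟩ hred rfl hc2.symm, φ_cons, ← mul_assoc,
          π_sq hl.1, one_mul]
    · refine ⟨a :: m, ⟨isWord_cons.2 ⟨hl.1, hm⟩, ?_⟩, ?_, ?_⟩
      · have h1 := len_mul_left_ne hl.1 hm.prod_mem
        have h2 := len_mul_left_le hl.1 hm.prod_mem
        simp
        omega
      · simpa using hc.mul_left a
      · rw [φ_cons, φ_cons, he]

theorem exists_coxeterSystem_coxMatrix (P : Cfsg.BNPair G) [((P.B ⊓ P.N).subgroupOf P.N).Normal] :
    ∃ cs : CoxeterSystem (coxMatrix P) (Weyl P), ∀ s : P.S, cs.simple s = gen P s := by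
  have hlift : (coxMatrix P).IsLiftable (gen P) := fun s t => pow_orderOf_eq_one _
  let f : (coxMatrix P).Group →* Weyl P :=
    (coxMatrix P).toCoxeterSystem.lift ⟨gen P, hlift⟩
  have hf : ∀ s : P.S, f ((coxMatrix P).simple s) = gen P s :=
    fun s => (coxMatrix P).toCoxeterSystem.lift_apply_simple hlift s
  have hfφ : ∀ l : List G, ∀ hl : IsWord P l,
      f (φ P l) = QuotientGroup.mk (⟨l.prod, hl.prod_mem⟩ : P.N) := by
    intro l
    induction l with
    | nil => intro _; simp [φ]; rfl
    | cons a t ih =>
      intro hl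
      have ha := (isWord_cons.1 hl).1
      rw [φ_cons, map_mul, ih (isWord_cons.1 hl).2]
      simp only [π, ha, dite_true, hf, List.prod_cons]
      rfl
  have hsurj : Function.Surjective f := by
    intro w
    obtain ⟨⟨n, hn⟩, rfl⟩ := QuotientGroup.mk_surjective w
    obtain ⟨l, hl, hc⟩ := exists_word hn
    exact ⟨φ P l, (hfφ l hl).trans (mk_eq_mk_iff.2 hc)⟩
  have hinj : Function.Injective f := by
    rw [injective_iff_map_eq_one]
    intro c hc
    obtain ⟨ω, hω⟩ := (coxMatrix P).toCoxeterSystem.wordProd_surjective c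
    have hl : IsWord P (ω.map Subtype.val) := by
      intro x hx
      obtain ⟨s, _, rfl⟩ := List.mem_map.1 hx
      exact s.2
    have hφ : φ P (ω.map Subtype.val) = c := by
      rw [← hω]
      unfold φ CoxeterSystem.wordProd
      rw [List.map_map]
      congr 1
      apply List.map_congr_left
      intro s _
      simp [π, Function.comp]
    rw [← hφ] at hc ⊢
    rw [hfφ _ hl] at hc
    obtain ⟨m, hm, hmc, hme⟩ := φ_eq_reduced hl
    have h1 : Cong P (ω.map Subtype.val).prod 1 := mk_eq_mk_iff.1 (hc : _ = QuotientGroup.mk (1 : P.N))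
    have h2 : len P m.prod = 0 := by
      rw [len_congr hm.1.prod_mem (hmc.trans h1)]; exact len_one
    rw [hm.2, List.length_eq_zero_iff] at h2
    rw [hme, h2]; rfl
  let e : (coxMatrix P).Group ≃* Weyl P := MulEquiv.ofBijective f ⟨hinj, hsurj⟩
  exact ⟨⟨e.symm⟩, fun s => hf s⟩

theorem exists_coxeterSystem (P : Cfsg.BNPair G) [((P.B ⊓ P.N).subgroupOf P.N).Normal] :
    ∃ (M : CoxeterMatrix P.S) (cs : CoxeterSystem M (Weyl P)), ∀ s : P.S, cs.simple s = gen P s := by
  obtain ⟨cs, h⟩ := exists_coxeterSystem_coxMatrix P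
  exact ⟨coxMatrix P, cs, h⟩

end

end Cfsg.Lib.BN
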